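/-!
# Words used in the parity count for J4

Letters of `wp`, `wh`: `0, 1, 2` stand for `X`, `Y`, `Y⁻¹`; letters of the other words: `0, 1, 2` stand for
`p`, `p⁻¹`, `h`.
-/

set_option autoImplicit false

namespace Cfsg.Agent.H440.J4P.Words

/-- word of `p` -/
def wp : List Nat := [1, 0, 1, 0, 2, 0, 2, 0, 2, 0, 2, 0, 2, 0, 2, 0, 1, 0, 1, 0, 2, 0, 1, 0, 2, 0, 1, 0, 1, 0, 1, 0, 1, 0, 1, 0, 1, 0, 1, 0, 2, 0, 2, 0, 2, 0, 2, 0, 1, 0, 1, 0]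

/-- word of `h` -/
def wh : List Nat := [0, 2, 0, 1, 0, 1, 0, 1, 0, 1, 0, 1, 0, 1, 0, 2, 0, 1, 0, 2, 0, 1, 0, 1, 0, 2, 0, 2, 0, 2, 0, 2, 0, 2, 0, 2, 0, 2, 0, 1, 0, 2, 0, 1, 0, 1, 0, 1, 0, 2, 0, 2]

/-- word of `q` -/
def wq : List Nat := [2, 0, 0, 0, 2, 0, 2, 0, 2, 1, 2, 1, 1, 1, 2, 0, 2, 1, 1, 2]

/-- word of `q⁻¹` -/
def wqi : List Nat := [2, 0, 0, 2, 1, 2, 0, 0, 0, 2, 0, 2, 1, 2, 1, 2, 1, 1, 1, 2]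

/-- words of the three involutions -/
def wX : List (List Nat) := [[0, 0, 2, 1, 1, 2], [0, 0, 0, 0, 0, 2, 1, 2, 1, 1, 1, 2, 1, 1, 2, 0, 2], [2]]

/-- the vectors over the three involutions, and some vectors -/
def Lv : List (List Nat) := [[124, 141, 280, 489, 615, 662, 771, 1010, 1052, 1261, 1400, 1417, 1543, 1782, 1891, 1938],
  [0, 115, 141, 254, 271, 380, 386, 497, 545, 594, 684, 735, 814, 861, 931, 976, 1040, 1123, 1181, 1262, 1311, 1388, 1426, 1505, 1585, 1602, 1724, 1743, 1854, 1869, 1971, 1984],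
  [0, 141, 280, 405, 615, 746, 895, 1010, 1103, 1218, 1367, 1498, 1576, 1701, 1840, 1981],
  [2, 3, 4, 5, 6, 7, 8, 9, 10, 12, 14, 15, 18, 20, 21, 22, 24, 25, 30, 31, 32, 33, 49, 50, 54, 55, 80, 93, 99, 128, 150, 188, 419]]

/-- class, word, count -/
def reps : List (Nat × List Nat × Nat) := [(0, [], 41),
  (0, [1, 2], 41),
  (0, [1, 1, 2], 48),
  (0, [0, 2, 1, 2], 59),
  (0, [1, 1, 1, 2], 43),
  (0, [1, 2, 0, 2], 49),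
  (0, [1, 2, 1, 2], 53),
  (0, [0, 0, 0, 0, 2], 50),
  (0, [0, 2, 1, 1, 2], 49),
  (0, [1, 1, 1, 1, 2], 41),
  (0, [1, 1, 2, 1, 2], 39),
  (0, [0, 0, 0, 0, 0, 2], 53),
  (0, [0, 2, 1, 2, 1, 2], 33),
  (0, [1, 1, 1, 2, 1, 2], 40),
  (0, [1, 2, 0, 2, 0, 2], 41),
  (0, [1, 2, 1, 1, 1, 2], 43),
  (0, [1, 2, 1, 2, 0, 2], 31),
  (0, [1, 2, 0, 0, 2, 0, 2], 60),
  (0, [1, 2, 1, 2, 1, 1, 2], 37),
  (0, [1, 2, 0, 0, 2, 0, 0, 2], 46),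
  (0, [1, 2, 1, 1, 1, 2, 1, 2], 40),
  (1, [], 71),
  (1, [2], 86),
  (1, [0, 2], 74),
  (1, [1, 2], 70),
  (1, [0, 0, 2], 69),
  (1, [2, 0, 2], 75),
  (1, [2, 1, 2], 81),
  (1, [0, 0, 0, 2], 63),
  (1, [0, 2, 0, 2], 74),
  (1, [1, 1, 1, 2], 81),
  (1, [1, 2, 1, 2], 75),
  (1, [2, 1, 1, 2], 58),
  (1, [1, 1, 2, 0, 2], 62),
  (1, [1, 1, 2, 1, 2], 59),
  (1, [2, 0, 0, 0, 2], 60),
  (1, [2, 1, 2, 1, 2], 73),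
  (1, [0, 0, 0, 0, 0, 2], 75),
  (1, [0, 2, 0, 2, 1, 2], 80),
  (1, [1, 1, 1, 2, 0, 2], 65),
  (1, [1, 1, 2, 1, 1, 2], 88),
  (1, [1, 2, 0, 2, 0, 2], 73),
  (1, [1, 2, 1, 2, 1, 2], 68),
  (1, [2, 0, 2, 0, 0, 2], 86),
  (1, [0, 2, 0, 0, 2, 0, 2], 73),
  (1, [1, 2, 1, 1, 1, 1, 2], 71),
  (1, [2, 1, 2, 1, 2, 0, 2], 70),
  (2, [], 0),
  (2, [0, 2, 0, 2], 0),
  (2, [1, 1, 1, 2], 0),
  (2, [0, 0, 0, 0, 2], 0),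
  (2, [1, 1, 1, 1, 2], 0),
  (2, [1, 1, 1, 2, 1, 2], 0),
  (3, [], 23)]

/-- the fixed vector -/
def x0 : Nat := 5192296858534827628530496329220095

end Cfsg.Agent.H440.J4P.Words
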